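import Mathlib

/-!
Automorphisms of an elementary abelian group of order at most 16: a nontrivial odd order
automorphism inverted by the square of an element `q` of order 4.
-/

set_option autoImplicit false

namespace Cfsg.Agent.Dichotomy

open Subgroup

variable {V : Type*} [Group V]

theorem sq_comm (hV : ∀ v : V, v * v = 1) (a b : V) : a * b = b * a := by
  have ha : ∀ v : V, v⁻¹ = v := fun v => inv_eq_of_mul_eq_one_right (hV v)
  rw [← ha (a * b), mul_inv_rev, ha, ha]

/-- The map `v ↦ v * e v`. -/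
def dmap (hV : ∀ v : V, v * v = 1) (e : MulAut V) : V →* V where
  toFun v := v * e v
  map_one' := by simp
  map_mul' a b := by
    rw [map_mul]
    calc a * b * (e a * e b) = a * (b * e a) * e b := by group
      _ = a * (e a * b) * e b := by rw [sq_comm hV b]
      _ = a * e a * (b * e b) := by group

theorem dmap_apply (hV : ∀ v : V, v * v = 1) (e : MulAut V) (v : V) : dmap hV e v = v * e v := rfl

theorem mem_dmap_ker (hV : ∀ v : V, v * v = 1) (e : MulAut V) (v : V) :
    v ∈ (dmap hV e).ker ↔ e v = v := by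
  rw [MonoidHom.mem_ker, dmap_apply, mul_eq_one_iff_eq_inv']
  constructor
  · intro h; rw [h]; exact inv_eq_of_mul_eq_one_right (hV v)
  · intro h; rw [h]; exact (inv_eq_of_mul_eq_one_right (hV v)).symm

theorem card_dmap [Finite V] (hV : ∀ v : V, v * v = 1) (e : MulAut V) :
    Nat.card (dmap hV e).ker * Nat.card (dmap hV e).range = Nat.card V := by
  rw [← Subgroup.index_ker, Subgroup.card_mul_index]

/-- An element with square `z` moves some fixed point of `z`. -/
theorem moves_fixed (hV : ∀ v : V, v * v = 1) (q : MulAut V) (h2 : q * q ≠ 1)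
    (h4 : (q * q) * (q * q) = 1) : ∃ v, (q * q) v = v ∧ q v ≠ v := by
  by_contra hc
  push Not at hc
  have hdd : ∀ v, dmap hV q (dmap hV q v) = v * (q * q) v := fun v => by
    simp only [dmap_apply, map_mul, MulAut.mul_apply]
    rw [mul_assoc v, ← mul_assoc (q v), hV, one_mul]
  have hzz : ∀ v, (q * q) ((q * q) v) = v := fun v => by
    rw [← MulAut.mul_apply, h4, MulAut.one_apply]
  refine h2 (MulEquiv.ext fun v => ?_)
  have hfix : ∀ u, (q * q) (u * (q * q) u) = u * (q * q) u := fun u => by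
    rw [map_mul, hzz]; exact sq_comm hV _ _
  -- `d v` is fixed by `q * q`
  have h1 : (q * q) (dmap hV q v) = dmap hV q v := by
    rw [← mem_dmap_ker hV, MonoidHom.mem_ker, dmap_apply, ← hdd, hdd v]
    exact MonoidHom.mem_ker.1 ((mem_dmap_ker hV q _).2 (hc _ (hfix v)))
  have h3 : dmap hV q (dmap hV q v) = 1 :=
    MonoidHom.mem_ker.1 ((mem_dmap_ker hV q _).2 (hc _ h1))
  rw [hdd] at h3
  exact (mem_dmap_ker hV (q * q) v).1 (MonoidHom.mem_ker.2 h3)

variable [Finite V]

/-- An element of prime odd order moving only a subspace of index at most 4 has order 3. -/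
theorem small_move (hV : ∀ v : V, v * v = 1) {e : MulAut V} {k : ℕ} (hk : e ^ (2 * k + 1) = 1)
    (he : e ≠ 1) (hidx : Nat.card (dmap hV e).range ≤ 4) :
    Nat.card (dmap hV e).range = 4 ∧
      (dmap hV e).range ⊔ (dmap hV e).ker = ⊤ ∧
      (∀ w ∈ (dmap hV e).range, e w = w → w = 1) ∧ e ^ 3 = 1 := by
  set W := (dmap hV e).range with hW
  set C := (dmap hV e).ker with hC
  have he2 : ∀ v, e (e v) = v → e v = v := fun v h => by
    have hp : ∀ j : ℕ, (e ^ (2 * j)) v = v := by
      intro j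
      induction j with
      | zero => simp
      | succ j ih => rw [show 2 * (j + 1) = 2 * j + 1 + 1 by ring, pow_succ, pow_succ, MulAut.mul_apply,
          MulAut.mul_apply, h, ih]
    calc e v = e ((e ^ (2 * k)) v) := by rw [hp]
      _ = (e ^ (2 * k + 1)) v := by rw [← MulAut.mul_apply, ← pow_succ']
      _ = v := by rw [hk, MulAut.one_apply]
  have hfree : ∀ w ∈ W, e w = w → w = 1 := by
    rintro _ ⟨v, rfl⟩ h
    rw [dmap_apply] at h ⊢
    rw [map_mul] at h
    have h' : e (e v) = v := by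
      calc e (e v) = e v * (e v * e (e v)) := by rw [← mul_assoc, hV, one_mul]
        _ = e v * (v * e v) := by rw [h]
        _ = v := by rw [sq_comm hV v, ← mul_assoc, hV, one_mul]
    rw [he2 v h', hV]
  have hinv : ∀ w ∈ W, e w ∈ W := by
    rintro _ ⟨v, rfl⟩
    exact ⟨e v, by simp [dmap_apply]⟩
  have hne : W ≠ ⊥ := fun h => he (MulEquiv.ext fun v => by
    have : dmap hV e v = 1 := (Subgroup.eq_bot_iff_forall W).1 h _ ⟨v, rfl⟩
    exact (mem_dmap_ker hV e v).1 (MonoidHom.mem_ker.2 this))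
  obtain ⟨w, hw, hw1⟩ : ∃ w ∈ W, w ≠ 1 := by
    by_contra h
    push Not at h
    exact hne ((Subgroup.eq_bot_iff_forall W).2 h)
  have hew : e w ∈ W := hinv w hw
  have hew1 : e w ≠ 1 := fun h => hw1 (e.injective (h.trans (map_one e).symm))
  have hne' : e w ≠ w := fun h => hw1 (hfree w hw h)
  have hsub : ({1, w, e w, w * e w} : Set V) ⊆ W := by
    rintro x (rfl | rfl | rfl | rfl)
    exacts [one_mem W, hw, hew, mul_mem hw hew]
  have h4 : ({1, w, e w, w * e w} : Set V).ncard = 4 := by
    have h1 : (1 : V) ≠ w * e w := fun h => hne' (by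
      calc e w = w * (w * e w) := by rw [← mul_assoc, hV, one_mul]
        _ = w := by rw [← h, mul_one])
    have h2 : w ≠ w * e w := fun h => hew1 (left_eq_mul.1 h)
    have h3 : e w ≠ w * e w := fun h => hw1 (right_eq_mul.1 h)
    rw [Set.ncard_insert_of_notMem, Set.ncard_insert_of_notMem, Set.ncard_pair h3]
    · simp only [Set.mem_insert_iff, Set.mem_singleton_iff, not_or]
      exact ⟨fun h => hne' h.symm, h2⟩
    · simp only [Set.mem_insert_iff, Set.mem_singleton_iff, not_or]
      exact ⟨fun h => hw1 h.symm, fun h => hew1 h.symm, h1⟩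
  have hWc : (W : Set V).ncard = Nat.card W := by rw [← Nat.card_coe_set_eq]; rfl
  have hcard : Nat.card W = 4 := le_antisymm hidx (by
    have := Set.ncard_le_ncard hsub (Set.toFinite _)
    rw [h4, hWc] at this
    exact this)
  have hall : (W : Set V) = {1, w, e w, w * e w} :=
    (Set.eq_of_subset_of_ncard_le hsub (by rw [h4, hWc, hcard]) (Set.toFinite _)).symm
  have he3w : (e ^ 3) w = w := by
    have h2w : e (e w) ∈ (W : Set V) := hinv _ hew
    rw [hall] at h2w
    rcases h2w with h | h | h | h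
    · exact absurd (e.injective (h.trans (map_one e).symm)) hew1
    · exact absurd (he2 w h) hne'
    · exact absurd (e.injective h) hne'
    · change e (e (e w)) = w
      rw [h, map_mul, h, sq_comm hV w, ← mul_assoc, hV, one_mul]
  have hinj : Function.Injective (fun x : W × C => (x.1 : V) * x.2) := by
    rintro ⟨a, b⟩ ⟨a', b'⟩ h
    simp only at h
    have hd : (a' : V)⁻¹ * a = b' * (b : V)⁻¹ := by
      rw [eq_mul_inv_iff_mul_eq, mul_assoc, h, inv_mul_cancel_left]
    have hfix := (mem_dmap_ker hV e _).1 (C.mul_mem b'.2 (C.inv_mem b.2))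
    rw [← hd] at hfix
    have ha : a = a' := Subtype.ext (inv_mul_eq_one.1 (hfree _ (W.mul_mem (W.inv_mem a'.2) a.2) hfix)).symm
    subst ha
    exact Prod.ext rfl (Subtype.ext (mul_left_cancel h))
  have hsurj : Function.Surjective (fun x : W × C => (x.1 : V) * x.2) := by
    refine (Nat.bijective_iff_injective_and_card _).2 ⟨hinj, ?_⟩ |>.2
    rw [Nat.card_prod, mul_comm, card_dmap]
  have htop : W ⊔ C = ⊤ := eq_top_iff.2 fun v _ => by
    obtain ⟨⟨a, b⟩, rfl⟩ := hsurj v
    exact mul_mem_sup a.2 b.2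
  refine ⟨hcard, htop, hfree, MulEquiv.ext fun v => ?_⟩
  obtain ⟨⟨⟨a, ha⟩, ⟨b, hb⟩⟩, rfl⟩ := hsurj v
  have hb' : e b = b := (mem_dmap_ker hV e b).1 hb
  have hcomm : ∀ x, (e ^ 3) (e x) = e ((e ^ 3) x) := fun x => rfl
  have ha' : (e ^ 3) a = a := by
    have : a ∈ (W : Set V) := ha
    rw [hall] at this
    rcases this with rfl | rfl | rfl | rfl
    · exact map_one _
    · exact he3w
    · rw [hcomm, he3w]
    · rw [map_mul, hcomm, he3w]
  simp only [map_mul, ha', MulAut.one_apply]
  congr 1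
  change e (e (e b)) = b
  rw [hb', hb', hb']

/-- The configuration forces `|V| = 16` and exactly four fixed points of `q * q`. -/
theorem inverted_aut (hV : ∀ v : V, v * v = 1) (h16 : Nat.card V ≤ 16) (q y : MulAut V)
    (h4 : (q * q) * (q * q) = 1) (hy : y ≠ 1) (hyo : Odd (orderOf y))
    (hinv : (q * q) * y * (q * q)⁻¹ = y⁻¹) (hcomm : Commute y (q * y * q⁻¹)) :
    Nat.card V = 16 ∧ Nat.card (dmap hV (q * q)).ker = 4 := by
  obtain ⟨z, hz⟩ : ∃ z, z = q * q := ⟨_, rfl⟩
  rw [← hz] at h4 hinv ⊢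
  set F := (dmap hV z).ker with hF
  have hVp : IsPGroup 2 V := fun v => ⟨1, by rw [pow_one, pow_two, hV]⟩
  obtain ⟨n, hn⟩ := IsPGroup.iff_card.1 hVp
  obtain ⟨m, hm⟩ := IsPGroup.iff_card.1 (hVp.to_subgroup F)
  have hFlt : F ≠ ⊤ := fun h => hy (by
    have h1 : z = 1 := MulEquiv.ext fun v => (mem_dmap_ker hV z v).1 (show v ∈ F by rw [h]; exact mem_top v)
    rw [h1, one_mul, inv_one, mul_one] at hinv
    have h2 : y ^ 2 = 1 := by rw [pow_two]; nth_rewrite 2 [hinv]; exact mul_inv_cancel y
    obtain ⟨k, hk⟩ := hyo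
    have := pow_orderOf_eq_one y
    rwa [hk, pow_succ, pow_mul, h2, one_pow, one_mul] at this)
  have hrange : (dmap hV z).range ≤ F := by
    rintro _ ⟨v, rfl⟩
    rw [hF, mem_dmap_ker, dmap_apply, map_mul, ← MulAut.mul_apply, h4, MulAut.one_apply]
    exact sq_comm hV _ _
  have hsq : Nat.card V ≤ Nat.card F * Nat.card F := by
    rw [← card_dmap hV z]
    exact Nat.mul_le_mul_left _ (Subgroup.card_le_of_le hrange)
  have hlt : m < n := by
    have h1 := Subgroup.card_le_card_group F
    rw [hm, hn] at h1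
    have := (Nat.pow_le_pow_iff_right (by norm_num)).1 h1
    refine lt_of_le_of_ne this fun h => hFlt (Subgroup.eq_top_of_card_eq F ?_)
    rw [hm, hn, h]
  rw [hm, hn, ← pow_add] at hsq
  have hnm : n ≤ m + m := (Nat.pow_le_pow_iff_right (by norm_num)).1 hsq
  have hn4 : n ≤ 4 := by
    rw [hn] at h16
    exact (Nat.pow_le_pow_iff_right (a := 2) (by norm_num)).1 (by omega)
  by_contra hcon
  have hnm1 : n = m + 1 := by
    by_contra h
    have : n = 4 ∧ m = 2 := by omega
    exact hcon ⟨by rw [hn, this.1]; rfl, by rw [hm, this.2]; rfl⟩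
  -- elements inverted by `z` move a subspace of index at most 4
  have hidx : ∀ e : MulAut V, ∀ k : ℕ, e ^ (2 * k + 1) = 1 → z * e * z⁻¹ = e⁻¹ →
      Nat.card (dmap hV e).range ≤ 4 := by
    intro e k hk he
    obtain ⟨s, hs⟩ : ∃ s, s = e ^ (k + 1) := ⟨_, rfl⟩
    have hss : s * s = e := by
      rw [hs, ← pow_add, show k + 1 + (k + 1) = 2 * k + 1 + 1 by ring, pow_succ, hk, one_mul]
    have hzs : z * s = s⁻¹ * z := by
      rw [← mul_inv_eq_iff_eq_mul, hs, ← conj_pow, he, inv_pow]
    have hze : z * e = s⁻¹ * z * s := by rw [← hss, ← mul_assoc, hzs]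
    have hF' : (dmap hV (z * e)).ker = F.comap s.toMonoidHom := by
      ext v
      rw [mem_dmap_ker, Subgroup.mem_comap, hF, mem_dmap_ker, hze, MulAut.mul_apply, MulAut.mul_apply]
      exact MulEquiv.symm_apply_eq s
    have hle : F ⊓ F.comap s.toMonoidHom ≤ (dmap hV e).ker := by
      rintro v ⟨hv1, hv2⟩
      rw [← hF'] at hv2
      replace hv1 : z v = v := (mem_dmap_ker hV z v).1 hv1
      replace hv2 : z (e v) = v := (mem_dmap_ker hV (z * e) v).1 hv2
      rw [mem_dmap_ker]
      exact z.injective (hv2.trans hv1.symm)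
    have hi : F.index = 2 := by
      have := F.card_mul_index
      rw [hm, hn, hnm1, pow_succ] at this
      exact Nat.eq_of_mul_eq_mul_left (by positivity) this
    have hi2 : (F.comap s.toMonoidHom).index = 2 := by
      rw [Subgroup.index_comap_of_surjective _ s.surjective, hi]
    calc Nat.card (dmap hV e).range = (dmap hV e).ker.index := (Subgroup.index_ker _).symm
      _ ≤ (F ⊓ F.comap s.toMonoidHom).index :=
          Nat.le_of_dvd (Nat.pos_of_ne_zero Subgroup.index_ne_zero_of_finite) (Subgroup.index_dvd_of_le hle)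
      _ ≤ F.index * (F.comap s.toMonoidHom).index := Subgroup.index_inf_le
      _ = 4 := by rw [hi, hi2]
  have hfact : ∀ e : MulAut V, e ≠ 1 → ∀ k : ℕ, e ^ (2 * k + 1) = 1 → z * e * z⁻¹ = e⁻¹ →
      Nat.card (dmap hV e).range = 4 ∧ (dmap hV e).range ⊔ (dmap hV e).ker = ⊤ ∧
        (∀ w ∈ (dmap hV e).range, e w = w → w = 1) ∧ e ^ 3 = 1 :=
    fun e he k hk hi => small_move hV hk he (hidx e k hk hi)
  obtain ⟨k, hk⟩ := hyo
  have hyk : y ^ (2 * k + 1) = 1 := hk ▸ pow_orderOf_eq_one y
  obtain ⟨hW4, htop, hfree, h3⟩ := hfact y hy k hyk hinv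
  set W := (dmap hV y).range with hW
  obtain ⟨y', hy'⟩ : ∃ y', y' = q * y * q⁻¹ := ⟨_, rfl⟩
  rw [← hy'] at hcomm
  have hy'inv : z * y' * z⁻¹ = y'⁻¹ := by
    have e1 : z * q = q * z := by rw [hz, mul_assoc]
    calc z * y' * z⁻¹ = (z * q) * y * (z * q)⁻¹ := by rw [hy']; group
      _ = q * (z * y * z⁻¹) * q⁻¹ := by rw [e1]; group
      _ = y'⁻¹ := by rw [hinv, hy']; group
  have hy'3 : y' ^ 3 = 1 := by rw [hy', conj_pow, h3, mul_one, mul_inv_cancel]
  have hcy : ∀ v, y (y' v) = y' (y v) := fun v => by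
    rw [← MulAut.mul_apply, ← MulAut.mul_apply, hcomm.eq]
  obtain ⟨w, hw, hw1⟩ : ∃ w ∈ W, w ≠ 1 := by
    by_contra h
    push Not at h
    rw [(Subgroup.eq_bot_iff_forall W).2 h, Subgroup.card_bot] at hW4
    omega
  have hinvW : ∀ x ∈ W, y' x ∈ W := by
    rintro _ ⟨v, rfl⟩
    exact ⟨y' v, by rw [dmap_apply, dmap_apply, hcy, map_mul]⟩
  have hyW : ∀ x ∈ W, y x ∈ W := by
    rintro _ ⟨v, rfl⟩
    exact ⟨y v, by simp [dmap_apply]⟩
  have hyw : y w ∈ W := hyW w hw
  -- `y'` agrees with a power of `y` on `W`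
  obtain ⟨i, hi⟩ : ∃ i : ℕ, y' w = (y ^ i) w := by
    by_contra hc
    push Not at hc
    have h1 : y w ≠ w := fun h => hw1 (hfree w hw h)
    have h2 : y (y w) ≠ y w := fun h => h1 (y.injective h)
    have h20 : y (y w) ≠ w := fun h => h1 (by
      calc y w = y (y (y w)) := by rw [h]
        _ = (y ^ 3) w := rfl
        _ = w := by rw [h3, MulAut.one_apply])
    have hsub : ({1, w, y w, y (y w), y' w} : Set V) ⊆ (W : Set V) := by
      rintro x (rfl | rfl | rfl | rfl | rfl)
      exacts [one_mem W, hw, hyw, hyW _ hyw, hinvW w hw]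
    have hne1 : ∀ f : MulAut V, (1 : V) ≠ f w := fun f h => hw1 (f.injective (h.symm.trans (map_one f).symm))
    have h5 : ({1, w, y w, y (y w), y' w} : Set V).ncard = 5 := by
      rw [Set.ncard_insert_of_notMem, Set.ncard_insert_of_notMem, Set.ncard_insert_of_notMem,
        Set.ncard_pair]
      · exact fun h => hc 2 (by rw [← h]; rfl)
      · simp only [Set.mem_insert_iff, Set.mem_singleton_iff, not_or]
        exact ⟨fun h => h2 h.symm, fun h => hc 1 (by rw [← h, pow_one])⟩
      · simp only [Set.mem_insert_iff, Set.mem_singleton_iff, not_or]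
        exact ⟨fun h => h1 h.symm, fun h => h20 h.symm, fun h => hc 0 (by rw [← h, pow_zero]; rfl)⟩
      · simp only [Set.mem_insert_iff, Set.mem_singleton_iff, not_or]
        exact ⟨fun h => hw1 h.symm, hne1 y, hne1 (y * y), hne1 y'⟩
    have := Set.ncard_le_ncard hsub (Set.toFinite _)
    rw [h5, ← Nat.card_coe_set_eq] at this
    change 5 ≤ Nat.card W at this
    omega
  -- the difference is trivial on `W`
  obtain ⟨e, he⟩ : ∃ e, e = y' * (y ^ i)⁻¹ := ⟨_, rfl⟩
  have hey : Commute y e := he ▸ hcomm.mul_right ((Commute.refl y).pow_right i).inv_right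
  have hew : e w = w := by
    have h1 : e ((y ^ i) w) = y' w := by
      rw [← MulAut.mul_apply, he, inv_mul_cancel_right]
    have h2 : e ((y ^ i) w) = (y ^ i) (e w) := by
      rw [← MulAut.mul_apply, ← MulAut.mul_apply, (hey.pow_left i).eq]
    exact (y ^ i).injective ((h2.symm.trans h1).trans hi)
  have heW : ∀ x ∈ W, e x = x := by
    have hy1 : y w ≠ w := fun h => hw1 (hfree w hw h)
    have hmem : ({1, w, y w, w * y w} : Set V) = W := by
      refine Set.eq_of_subset_of_ncard_le ?_ ?_ (Set.toFinite _)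
      · rintro x (rfl | rfl | rfl | rfl)
        exacts [one_mem W, hw, hyw, mul_mem hw hyw]
      · have h1 : (1 : V) ≠ w * y w := fun h => hy1 (by
          calc y w = w * (w * y w) := by rw [← mul_assoc, hV, one_mul]
            _ = w := by rw [← h, mul_one])
        have hyw1 : y w ≠ 1 := fun h => hw1 (y.injective (h.trans (map_one y).symm))
        rw [← Nat.card_coe_set_eq (W : Set V)]
        change Nat.card W ≤ _
        rw [hW4, Set.ncard_insert_of_notMem, Set.ncard_insert_of_notMem, Set.ncard_pair]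
        · exact fun h => hw1 (right_eq_mul.1 h)
        · simp only [Set.mem_insert_iff, Set.mem_singleton_iff, not_or]
          exact ⟨fun h => hy1 h.symm, fun h => hyw1 (left_eq_mul.1 h)⟩
        · simp only [Set.mem_insert_iff, Set.mem_singleton_iff, not_or]
          exact ⟨fun h => hw1 h.symm, fun h => hyw1 h.symm, h1⟩
    intro x hx
    have hx' : x ∈ ({1, w, y w, w * y w} : Set V) := hmem ▸ hx
    have hewy : e (y w) = y w := by rw [← MulAut.mul_apply, ← hey.eq, MulAut.mul_apply, hew]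
    rcases hx' with rfl | rfl | rfl | rfl
    exacts [map_one e, hew, hewy, by rw [map_mul, hew, hewy]]
  have he3 : e ^ 3 = 1 := by
    rw [he, (hcomm.symm.pow_right i).inv_right.mul_pow, hy'3, one_mul, inv_pow, ← pow_mul,
      mul_comm, pow_mul, h3, one_pow, inv_one]
  have heinv : z * e * z⁻¹ = e⁻¹ := by
    rw [← MulAut.conj_apply, he, map_mul, map_inv, map_pow, MulAut.conj_apply, MulAut.conj_apply,
      hy'inv, hinv, mul_inv_rev, inv_inv, inv_pow, inv_inv]
    exact (hcomm.symm.pow_right i).inv_left.eq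
  have he1 : e = 1 := by
    by_contra hne
    obtain ⟨he4, -, -, -⟩ := hfact e hne 1 he3 heinv
    have hye : y * e ≠ 1 := fun h => hw1 (hfree w hw (by
      calc y w = y (e w) := by rw [hew]
        _ = w := by rw [← MulAut.mul_apply, h, MulAut.one_apply]))
    obtain ⟨hye4, -, -, -⟩ := hfact (y * e) hye 1 (by rw [hey.mul_pow]; simp only [show 2 * 1 + 1 = 3 from rfl, h3, he3, one_mul]) (by
      rw [← MulAut.conj_apply, map_mul, MulAut.conj_apply, MulAut.conj_apply, hinv, heinv, hey.inv_inv.eq,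
        mul_inv_rev])
    -- both pieces lie in the range for `y * e`
    have hWle : W ≤ (dmap hV (y * e)).range := by
      intro x hx
      have hinjW : Function.Injective (fun a : W => (⟨(a : V) * y a, W.mul_mem a.2 (hyW _ a.2)⟩ : W)) := by
        rintro ⟨a, ha⟩ ⟨b, hb⟩ h
        have h' : dmap hV y a = dmap hV y b := congrArg Subtype.val h
        refine Subtype.ext (inv_mul_eq_one.1 (hfree _ (W.mul_mem (W.inv_mem ha) hb) ?_))
        rw [← mem_dmap_ker hV, MonoidHom.mem_ker, map_mul, map_inv, h', inv_mul_cancel]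
      obtain ⟨a, ha⟩ := Finite.surjective_of_injective hinjW ⟨x, hx⟩
      exact ⟨a, by rw [dmap_apply, MulAut.mul_apply, heW a a.2]; exact congrArg Subtype.val ha⟩
    have hEle : (dmap hV e).range ≤ (dmap hV (y * e)).range ∧ (dmap hV e).range ≤ (dmap hV y).ker := by
      have hdec : ∀ v, ∃ c, y c = c ∧ dmap hV e v = dmap hV e c := fun v => by
        obtain ⟨a, ha, c, hc, rfl⟩ := mem_sup_of_normal_right.1 (htop ▸ mem_top v :
          v ∈ W ⊔ (dmap hV y).ker)
        refine ⟨c, (mem_dmap_ker hV y c).1 hc, ?_⟩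
        rw [map_mul, MonoidHom.mem_ker.1 ((mem_dmap_ker hV e a).2 (heW a ha)), one_mul]
      refine ⟨?_, ?_⟩ <;> rintro _ ⟨v, rfl⟩ <;> obtain ⟨c, hc, hvc⟩ := hdec v <;> rw [hvc]
      · refine ⟨c, ?_⟩
        rw [dmap_apply, dmap_apply, hey.eq, MulAut.mul_apply, hc]
      · rw [mem_dmap_ker, dmap_apply, map_mul, hc, ← MulAut.mul_apply, hey.eq, MulAut.mul_apply, hc]
    have hinj : Function.Injective (fun x : W × (dmap hV e).range =>
        (⟨(x.1 : V) * x.2, mul_mem (hWle x.1.2) (hEle.1 x.2.2)⟩ : (dmap hV (y * e)).range)) := by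
      rintro ⟨a, b⟩ ⟨a', b'⟩ h
      have h' : (a : V) * b = a' * b' := congrArg Subtype.val h
      have hd : (a' : V)⁻¹ * a = b' * (b : V)⁻¹ := by
        rw [eq_mul_inv_iff_mul_eq, mul_assoc, h', inv_mul_cancel_left]
      have hfix := (mem_dmap_ker hV y _).1 (hEle.2 (mul_mem b'.2 (inv_mem b.2)))
      rw [← hd] at hfix
      have ha : a = a' := Subtype.ext (inv_mul_eq_one.1 (hfree _ (W.mul_mem (W.inv_mem a'.2) a.2) hfix)).symm
      subst ha
      exact Prod.ext rfl (Subtype.ext (mul_left_cancel h'))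
    have := Nat.card_le_card_of_injective _ hinj
    rw [Nat.card_prod, hW4, he4, hye4] at this
    omega
  have hy'i : y' = y ^ i := mul_inv_eq_one.1 (he ▸ he1)
  have hzy : z * y * z⁻¹ = y ^ (i * i) := by
    calc z * y * z⁻¹ = q * (q * y * q⁻¹) * q⁻¹ := by rw [hz]; group
      _ = q * y ^ i * q⁻¹ := by rw [← hy', hy'i]
      _ = (q * y * q⁻¹) ^ i := conj_pow.symm
      _ = y ^ (i * i) := by rw [← hy', hy'i, ← pow_mul]
  have h1 : y ^ (i * i + 1) = 1 := by
    rw [pow_succ, ← hzy, hinv, inv_mul_cancel]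
  have ho : orderOf y = 3 := orderOf_eq_prime h3 hy
  have hd := orderOf_dvd_of_pow_eq_one h1
  rw [ho] at hd
  obtain ⟨j, hj⟩ := hd
  have := Nat.mod_lt i (show 3 > 0 by norm_num)
  have h2 : (i * i + 1) % 3 = ((i % 3) * (i % 3) + 1) % 3 := by
    simp [Nat.add_mod, Nat.mul_mod]
  interval_cases h : i % 3 <;> omega

/-- A 2-group of automorphisms with a single involution `z` fixing four points has order at most 4. -/
theorem card_le_four (hV : ∀ v : V, v * v = 1) (P : Subgroup (MulAut V)) (hP : IsPGroup 2 P)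
    {z : MulAut V} (hzz : z * z = 1) (hz1 : z ≠ 1) (huniq : ∀ x ∈ P, x * x = 1 → x = 1 ∨ x = z)
    (hF : Nat.card (dmap hV z).ker = 4) : Nat.card P ≤ 4 := by
  classical
  have hcen : ∀ x ∈ P, z ∈ P → x * z = z * x := fun x hx hz => by
    rcases huniq (x * z * x⁻¹) (mul_mem (mul_mem hx hz) (inv_mem hx))
      (by rw [show x * z * x⁻¹ * (x * z * x⁻¹) = x * (z * z) * x⁻¹ by group, hzz]; group) with h | h
    · exact absurd (conj_eq_one_iff.1 h) hz1
    · exact mul_inv_eq_iff_eq_mul.1 h
  by_cases hzP : z ∈ P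
  swap
  · obtain ⟨k, hk⟩ := IsPGroup.iff_card.1 hP
    rcases Nat.eq_zero_or_pos k with rfl | hk0
    · omega
    · exfalso
      obtain ⟨x, hx⟩ := exists_prime_orderOf_dvd_card' (G := P) 2 (hk ▸ dvd_pow_self 2 hk0.ne')
      have hx2 : (x : MulAut V) * x = 1 := by
        have := pow_orderOf_eq_one x
        rw [hx, pow_two] at this
        exact congrArg Subtype.val this
      rcases huniq x x.2 hx2 with h | h
      · rw [← Subgroup.orderOf_coe, h, orderOf_one] at hx; omega
      · exact hzP (h ▸ x.2)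
  let T := {v : V // z v = v ∧ v ≠ 1}
  have hmv : ∀ x ∈ P, ∀ v : V, z v = v ∧ v ≠ 1 → z (x v) = x v ∧ x v ≠ 1 := fun x hx v hv =>
    ⟨by rw [← MulAut.mul_apply, ← hcen x hx hzP, MulAut.mul_apply, hv.1],
      fun h => hv.2 (x.injective (h.trans (map_one x).symm))⟩
  let r : P →* Equiv.Perm T :=
    MonoidHom.mk' (fun x =>
      { toFun := fun v => ⟨(x : MulAut V) v.1, hmv _ x.2 v.1 v.2⟩
        invFun := fun v => ⟨(x⁻¹ : P).1 v.1, hmv _ (x⁻¹).2 v.1 v.2⟩
        left_inv := fun v => Subtype.ext (MulEquiv.symm_apply_apply (x : MulAut V) v.1)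
        right_inv := fun v => Subtype.ext (MulEquiv.apply_symm_apply (x : MulAut V) v.1) })
      (fun a b => Equiv.ext fun v => rfl)
  have hker : ∀ x : P, x ∈ r.ker → (x : MulAut V) * x = 1 := by
    intro x hx
    by_contra hne
    obtain ⟨a, ha⟩ := IsPGroup.iff_orderOf.1 hP x
    rcases a with _ | _ | a
    · rw [pow_zero, orderOf_eq_one_iff] at ha; exact hne (by simp [ha])
    · rw [show 2 ^ (0 + 1) = 2 from rfl] at ha
      have := pow_orderOf_eq_one x
      rw [ha, pow_two] at this
      exact hne (congrArg Subtype.val this)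
    obtain ⟨x', hx'⟩ : ∃ x' : P, x' = x ^ 2 ^ a := ⟨_, rfl⟩
    have hk' : x' ∈ r.ker := hx' ▸ pow_mem hx _
    have ho : orderOf x' = 4 := by
      rw [hx', orderOf_pow_of_dvd (by positivity) (by rw [ha]; exact pow_dvd_pow 2 (by omega)), ha,
        show a + 1 + 1 = a + 2 from rfl, pow_add, Nat.mul_div_cancel_left _ (by positivity)]
      rfl
    have h22 : (x' : MulAut V) * x' ≠ 1 := fun h => by
      have : x' ^ 2 = 1 := Subtype.ext (by rw [pow_two]; exact h)
      have := orderOf_dvd_of_pow_eq_one this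
      rw [ho] at this; omega
    have h44 : ((x' : MulAut V) * x') * ((x' : MulAut V) * x') = 1 := by
      have : x' ^ 4 = 1 := by rw [← ho]; exact pow_orderOf_eq_one x'
      have h := congrArg Subtype.val this
      simpa [pow_succ, mul_assoc] using h
    have hsq : (x' : MulAut V) * x' = z := (huniq _ (mul_mem x'.2 x'.2) h44).resolve_left h22
    obtain ⟨v, hv, hmvv⟩ := moves_fixed hV (x' : MulAut V) h22 h44
    rw [hsq] at hv
    by_cases hv1 : v = 1
    · exact hmvv (by rw [hv1, map_one])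
    · exact hmvv (congrArg Subtype.val
        (Equiv.congr_fun (MonoidHom.mem_ker.1 hk' : r x' = 1) (⟨v, hv, hv1⟩ : T)))
  have hk2 : Nat.card r.ker ≤ 2 := by
    have : ∀ x : r.ker, (x : P) = 1 ∨ (x : P) = ⟨z, hzP⟩ := fun x => by
      rcases huniq (x : P) (x : P).2 (hker _ x.2) with h | h
      · exact Or.inl (Subtype.ext h)
      · exact Or.inr (Subtype.ext h)
    refine le_trans (Nat.card_le_card_of_injective (fun x : r.ker => decide ((x : P) = 1)) ?_)
      (by rw [Nat.card_eq_fintype_card, Fintype.card_bool])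
    intro a b h
    simp only [decide_eq_decide] at h
    apply Subtype.ext
    rcases this a with ha | ha <;> rcases this b with hb | hb
    · rw [ha, hb]
    · rw [ha, (h.1 ha)]
    · rw [hb, (h.2 hb)]
    · rw [ha, hb]
  have hT : Nat.card T = 3 := by
    have : Nat.card T = Nat.card {v : (dmap hV z).ker // v ≠ 1} :=
      Nat.card_congr
        { toFun := fun v => ⟨⟨v.1, (mem_dmap_ker hV z _).2 v.2.1⟩, fun h => v.2.2 (congrArg Subtype.val h)⟩
          invFun := fun v => ⟨v.1.1, (mem_dmap_ker hV z _).1 v.1.2, fun h => v.2 (Subtype.ext h)⟩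
          left_inv := fun v => rfl
          right_inv := fun v => rfl }
    rw [this]
    have := Fintype.ofFinite (dmap hV z).ker
    rw [Nat.card_eq_fintype_card, Fintype.card_subtype_compl, Fintype.card_subtype_eq,
      ← Nat.card_eq_fintype_card, hF]
  have hrng : Nat.card r.range ≤ 2 := by
    obtain ⟨k, hk⟩ := IsPGroup.iff_card.1 (hP.of_surjective r.rangeRestrict r.rangeRestrict_surjective)
    have hd : Nat.card r.range ∣ 6 := by
      have := Subgroup.card_subgroup_dvd_card r.range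
      rwa [Nat.card_perm, hT] at this
    rcases k with _ | _ | k
    · rw [hk]; norm_num
    · rw [hk]; norm_num
    · exfalso
      rw [hk] at hd
      have : 4 ∣ 6 := (pow_dvd_pow 2 (show 2 ≤ k + 1 + 1 by omega)).trans hd
      omega
  calc Nat.card P = Nat.card r.ker * r.ker.index := (Subgroup.card_mul_index _).symm
    _ = Nat.card r.ker * Nat.card r.range := by rw [Subgroup.index_ker]
    _ ≤ 2 * 2 := Nat.mul_le_mul hk2 hrng

end Cfsg.Agent.Dichotomy
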