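import Cfsg.Agent.Dichotomy.Aut
import Cfsg.Agent.Layer.PConstraint
import Cfsg.Agent.Core.Frattini
import Cfsg.Agent.SecFour.Basic
import Cfsg.Prelude.Def_CaseTheorems

/-!
An odd subgroup inverted by the involution of a 2-group `P` with one involution, in a group of
characteristic 2 and sectional rank at most 4.
-/

set_option autoImplicit false

namespace Cfsg.Agent.Dichotomy

open Subgroup Cfsg

variable {C : Type*} [Group C] [Finite C]

theorem inverted_bound (hsc : Layer.PCoreSelfCentral 2 C) (hsec : Cfsg.SectionalPRankLE 2 4 C)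
    {t : C} (htc : t ∈ center C) (ht1 : t ≠ 1)
    {X P : Subgroup C} (hX : Odd (Nat.card X)) (hX1 : X ≠ ⊥) (hP : IsPGroup 2 P) (hP4 : 4 ≤ Nat.card P)
    {z : C} (hzz : z * z = 1)
    (huniq : ∀ x ∈ P, x * x = 1 → x = 1 ∨ x = z)
    (hPX : ∀ p ∈ P, ∀ x ∈ X, p * x * p⁻¹ ∈ X) (hinv : ∀ x ∈ X, z * x * z⁻¹ = x⁻¹) :
    Nat.card P ≤ 4 ∧ 128 ∣ Nat.card C := by
  have := Fact.mk Nat.prime_two
  obtain ⟨Q, hQ⟩ : ∃ Q, Q = pCore 2 C := ⟨_, rfl⟩
  have hQn : Q.Normal := hQ ▸ inferInstance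
  have hQp : IsPGroup 2 Q := hQ ▸ Core.pCore_isPGroup
  have htQ : t ∈ Q := hQ ▸ hsc (mem_centralizer_iff.2 fun g _ => (mem_center_iff.1 htc g))
  let N : Subgroup Q := closure (Set.range (fun x : Q => x * x) ∪ {⟨t, htQ⟩})
  have hstab : ∀ c : C, N.map (MulAut.conjNormal c : MulAut Q).toMonoidHom ≤ N := by
    intro c
    rw [MonoidHom.map_closure, closure_le]
    rintro _ ⟨x, hx, rfl⟩
    rcases hx with ⟨y, rfl⟩ | rfl
    · exact subset_closure (Or.inl ⟨(MulAut.conjNormal c : MulAut Q) y, (map_mul _ y y).symm⟩)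
    · refine subset_closure (Or.inr (Subtype.ext ?_))
      simp only [MulEquiv.toMonoidHom_eq_coe, MonoidHom.coe_coe, MulAut.conjNormal_apply]
      rw [mem_center_iff.1 htc c, mul_inv_cancel_right]
  have hNn : N.Normal := ⟨fun n hn g => by
    have := hstab (g : C) ⟨n, hn, rfl⟩
    convert this using 1
    exact Subtype.ext (MulAut.conjNormal_apply (g : C) n).symm⟩
  have heq : ∀ c : C, N.map (MulAut.conjNormal c : MulAut Q).toMonoidHom = N := fun c =>
    Subgroup.eq_of_le_of_card_ge (hstab c)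
      (le_of_eq (card_map_of_injective (MulAut.conjNormal c : MulAut Q).injective).symm)
  let ρ : C →* MulAut (Q ⧸ N) :=
    MonoidHom.mk' (fun c => QuotientGroup.congr N N (MulAut.conjNormal c) (heq c)) (fun a b => by
      refine MulEquiv.ext fun v => ?_
      obtain ⟨u, rfl⟩ := QuotientGroup.mk'_surjective N v
      simp [map_mul, MulAut.mul_apply]
      rfl)
  have hρ : ∀ (c : C) (u : Q), ρ c (QuotientGroup.mk' N u) =
      QuotientGroup.mk' N ((MulAut.conjNormal c : MulAut Q) u) := fun c u => rfl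
  have hV : ∀ v : Q ⧸ N, v * v = 1 := fun v => by
    obtain ⟨u, rfl⟩ := QuotientGroup.mk'_surjective N v
    rw [← map_mul, QuotientGroup.mk'_apply, QuotientGroup.eq_one_iff]
    exact subset_closure (Or.inl ⟨u, rfl⟩)
  have h16 : Nat.card (Q ⧸ N) ≤ 16 := by
    have h1 := hsec Q N ⊤ ⟨⟨fun a b => Subtype.ext (sq_comm hV a.1 b.1)⟩⟩
      (fun a _ => by rw [pow_two]; exact hV a)
    rwa [Subgroup.card_top, show (2 : ℕ) ^ 4 = 16 by norm_num] at h1
  -- `X` acts faithfully
  have hfaith : ∀ x ∈ X, ρ x = 1 → x = 1 := by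
    intro x hx hρx
    obtain ⟨A, hA⟩ : ∃ A, A = zpowers x := ⟨_, rfl⟩
    have hAk : A ≤ ρ.ker := hA ▸ (zpowers_le.2 (MonoidHom.mem_ker.2 hρx))
    have hAX : A ≤ X := hA ▸ zpowers_le.2 hx
    have hcop : (Nat.card A).Coprime (Nat.card (N.map Q.subtype)) := by
      obtain ⟨k, hk⟩ := IsPGroup.iff_card.1 ((hQp.to_subgroup N).map Q.subtype)
      rw [hk]
      exact Nat.Coprime.pow_right k (Nat.coprime_two_right.2 (hX.of_dvd_nat (card_dvd_of_le hAX)))
    have hD : ((centralizer (A : Set C)).subgroupOf Q) ⊔ frattini Q = ⊤ := by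
      rw [eq_top_iff]
      rintro ⟨q, hq⟩ -
      have hAN : A ≤ normalizer ((N.map Q.subtype : Subgroup C) : Set C) := by
        intro a ha
        refine mem_normalizer_fintype ?_
        rintro _ ⟨n, hn, rfl⟩
        exact ⟨(MulAut.conjNormal a : MulAut Q) n, hstab a ⟨n, hn, rfl⟩, MulAut.conjNormal_apply a n⟩
      obtain ⟨n, hn, hc⟩ := Coprime.exists_fixed_mem_leftCoset (N := N.map Q.subtype) hAN hcop
        (Or.inr (Layer.isSolvable_of_isPGroup ((hQp.to_subgroup N).map Q.subtype))) (k := q) (fun a ha => by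
          have h1 : ρ a = 1 := hAk ha
          have h2 := hρ a ⟨q, hq⟩
          rw [h1, MulAut.one_apply, QuotientGroup.mk'_apply, QuotientGroup.mk'_apply,
            QuotientGroup.eq] at h2
          exact ⟨_, h2, by simp⟩)
      obtain ⟨n', hn', rfl⟩ := hn
      have hN' : n' ∈ ((centralizer (A : Set C)).subgroupOf Q) ⊔ frattini Q := by
        refine (closure_le _).2 ?_ hn'
        rintro u (⟨y, rfl⟩ | rfl)
        · refine mem_sup_right ?_
          have := Core.pow_mem_frattini hQp y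
          simpa [pow_two] using this
        · exact mem_sup_left (mem_subgroupOf.2 (mem_centralizer_iff.2 fun g _ => mem_center_iff.1 htc g))
      have hc' : (⟨q, hq⟩ : Q) * n' ∈ ((centralizer (A : Set C)).subgroupOf Q) ⊔ frattini Q :=
        mem_sup_left (mem_subgroupOf.2 hc)
      simpa using mul_mem hc' (inv_mem hN')
    have hall := frattini_nongenerating hD
    have hxQ : x ∈ Q := by
      rw [hQ]
      refine hsc (mem_centralizer_iff.2 fun g hg => ?_)
      rw [SetLike.mem_coe, ← hQ] at hg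
      have h1 : (⟨g, hg⟩ : Q) ∈ (centralizer (A : Set C)).subgroupOf Q := hall ▸ mem_top _
      exact (mem_centralizer_iff.1 (mem_subgroupOf.1 h1) x (hA ▸ mem_zpowers x)).symm
    obtain ⟨a, ha⟩ := IsPGroup.iff_orderOf.1 hQp ⟨x, hxQ⟩
    rw [Subgroup.orderOf_mk] at ha
    have hodd : Odd (orderOf x) := hX.of_dvd_nat (by
      rw [← Subgroup.orderOf_mk x hx]; exact orderOf_dvd_natCard _)
    rw [← orderOf_eq_one_iff]
    exact Nat.eq_one_of_dvd_coprimes (Nat.Coprime.pow_right a (Nat.coprime_two_right.2 hodd))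
      dvd_rfl (ha ▸ dvd_rfl)
  obtain ⟨x0, hx0, hx01⟩ : ∃ x ∈ X, x ≠ 1 := by
    by_contra h
    push Not at h
    exact hX1 ((Subgroup.eq_bot_iff_forall X).2 h)
  have hy1 : ρ x0 ≠ 1 := fun h => hx01 (hfaith x0 hx0 h)
  have hyo : Odd (orderOf (ρ x0)) := (hX.of_dvd_nat (by
    rw [← Subgroup.orderOf_mk x0 hx0]; exact orderOf_dvd_natCard _)).of_dvd_nat (orderOf_map_dvd ρ x0)
  have hρz : ρ z ≠ 1 := fun h => hy1 (by
    have h2 := congrArg ρ (hinv x0 hx0)
    rw [map_mul, map_mul, map_inv, map_inv, h, one_mul, inv_one, mul_one] at h2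
    have h3 : ρ x0 ^ 2 = 1 := by rw [pow_two]; nth_rewrite 2 [h2]; exact mul_inv_cancel _
    obtain ⟨k, hk⟩ := hyo
    have := pow_orderOf_eq_one (ρ x0)
    rwa [hk, pow_succ, pow_mul, h3, one_pow, one_mul] at this)
  -- an element with square `z`
  obtain ⟨q, hqP, hqz⟩ : ∃ q ∈ P, q * q = z := by
    by_contra hc
    push Not at hc
    have hall : ∀ x : P, (x : C) = 1 ∨ (x : C) = z := by
      intro x
      obtain ⟨a, ha⟩ := IsPGroup.iff_orderOf.1 hP x
      rcases a with _ | _ | a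
      · rw [pow_zero, orderOf_eq_one_iff] at ha; exact Or.inl (by rw [ha]; rfl)
      · rw [show 2 ^ (0 + 1) = 2 from rfl] at ha
        have h2 := pow_orderOf_eq_one x
        rw [ha, pow_two] at h2
        exact huniq x x.2 (congrArg Subtype.val h2)
      · exfalso
        have h1 : (x ^ 2 ^ a * x ^ 2 ^ a) * (x ^ 2 ^ a * x ^ 2 ^ a) = 1 := by
          rw [← pow_add, ← pow_add, show 2 ^ a + 2 ^ a + (2 ^ a + 2 ^ a) = 2 ^ (a + 1 + 1) by ring, ← ha,
            pow_orderOf_eq_one]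
        rcases huniq _ (x ^ 2 ^ a * x ^ 2 ^ a).2 (congrArg Subtype.val h1) with h | h
        · have h' : x ^ 2 ^ (a + 1) = 1 := Subtype.ext (by
            rw [show 2 ^ (a + 1) = 2 ^ a + 2 ^ a by ring, pow_add]; exact h)
          have hd := orderOf_dvd_of_pow_eq_one h'
          rw [ha, Nat.pow_dvd_pow_iff_le_right (by norm_num)] at hd
          omega
        · exact hc _ (x ^ 2 ^ a).2 h
    have h2 : Nat.card P ≤ 2 := by
      classical
      refine le_trans (Nat.card_le_card_of_injective (fun x : P => decide ((x : C) = 1)) ?_)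
        (by rw [Nat.card_eq_fintype_card, Fintype.card_bool])
      intro a b h
      simp only [decide_eq_decide] at h
      apply Subtype.ext
      rcases hall a with ha | ha <;> rcases hall b with hb | hb
      · rw [ha, hb]
      · rw [ha, h.1 ha]
      · rw [hb, h.2 hb]
      · rw [ha, hb]
    omega
  have hXc : ∀ a ∈ X, ∀ b ∈ X, a * b = b * a := fun a ha b hb => by
    have h1 := hinv _ (X.mul_mem ha hb)
    rw [show z * (a * b) * z⁻¹ = z * a * z⁻¹ * (z * b * z⁻¹) by group, hinv a ha, hinv b hb,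
      ← mul_inv_rev] at h1
    exact (inv_injective h1).symm
  have hqq : ρ q * ρ q = ρ z := by rw [← map_mul, hqz]
  obtain ⟨hV16, hF⟩ := inverted_aut hV h16 (ρ q) (ρ x0)
    (by rw [hqq, ← map_mul, hzz, map_one]) hy1 hyo
    (by rw [hqq, ← map_inv, ← map_mul, ← map_mul, hinv x0 hx0, map_inv])
    (by rw [← map_inv, ← map_mul, ← map_mul]; exact Commute.map (hXc x0 hx0 _ (hPX q hqP x0 hx0)) ρ)
  rw [hqq] at hF
  have hPinj : ∀ p ∈ P, ρ p = 1 → p = 1 := by
    intro p hp hρp
    by_contra hne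
    obtain ⟨a, ha⟩ := IsPGroup.iff_orderOf.1 hP ⟨p, hp⟩
    rw [Subgroup.orderOf_mk] at ha
    rcases a with _ | a
    · rw [pow_zero, orderOf_eq_one_iff] at ha; exact hne ha
    · have ho : orderOf (p ^ 2 ^ a) = 2 := by
        rw [orderOf_pow_of_dvd (by positivity) (by rw [ha, pow_succ]; exact Dvd.intro _ rfl), ha,
          pow_succ, Nat.mul_div_cancel_left _ (by positivity)]
      rcases huniq _ (pow_mem hp _) (by rw [← pow_two, ← ho, pow_orderOf_eq_one]) with h | h
      · rw [h, orderOf_one] at ho; omega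
      · exact hρz (by rw [← h, map_pow, hρp, one_pow])
  have hP4' : Nat.card P ≤ 4 := by
    have h1 := card_le_four hV (P.map ρ) (hP.map ρ) (z := ρ z) (by rw [← map_mul, hzz, map_one]) hρz
      (by
        rintro _ ⟨p, hp, rfl⟩ h
        rw [← map_mul] at h
        rcases huniq p hp (hPinj _ (mul_mem hp hp) h) with e | e
        · exact Or.inl (by rw [e, map_one])
        · exact Or.inr (by rw [e]))
      hF
    refine le_trans (le_of_eq ?_) h1
    refine (Nat.card_congr (Equiv.ofBijective (fun p : P => (⟨ρ p, p, p.2, rfl⟩ : P.map ρ))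
      ⟨fun a b h => ?_, ?_⟩))
    · have h' : ρ a = ρ b := congrArg Subtype.val h
      exact Subtype.ext (inv_mul_eq_one.1 (hPinj _ (mul_mem (inv_mem a.2) b.2)
        (by rw [map_mul, map_inv, h', inv_mul_cancel])))
    · rintro ⟨_, p, hp, rfl⟩
      exact ⟨⟨p, hp⟩, rfl⟩
  refine ⟨hP4', ?_⟩
  -- `Q ⊔ P` has order at least 128
  have hQ32 : 32 ∣ Nat.card Q := by
    rw [Subgroup.card_eq_card_quotient_mul_card_subgroup N, hV16]
    obtain ⟨k, hk⟩ := IsPGroup.iff_card.1 (hQp.to_subgroup N)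
    rw [hk]
    rcases Nat.eq_zero_or_pos k with rfl | hk0
    · exfalso
      rw [pow_zero] at hk
      have htN : (⟨t, htQ⟩ : Q) ∈ N := subset_closure (Or.inr rfl)
      rw [Subgroup.card_eq_one.1 hk, mem_bot] at htN
      exact ht1 (congrArg Subtype.val htN)
    · exact (show 32 = 16 * 2 from rfl) ▸ Nat.mul_dvd_mul_left 16 (dvd_pow_self 2 hk0.ne')
  have hdisj : Q ⊓ P = ⊥ := by
    rw [Subgroup.eq_bot_iff_forall]
    rintro p ⟨hpQ, hpP⟩
    refine hPinj p hpP (MulEquiv.ext fun v => ?_)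
    obtain ⟨u, rfl⟩ := QuotientGroup.mk'_surjective N v
    rw [hρ, MulAut.one_apply,
      show (MulAut.conjNormal p : MulAut Q) u = ⟨p, hpQ⟩ * u * ⟨p, hpQ⟩⁻¹ from
        Subtype.ext (MulAut.conjNormal_apply p u), map_mul, map_mul, map_inv,
      sq_comm hV, ← mul_assoc, inv_mul_cancel, one_mul]
  have hP4e : Nat.card P = 4 := le_antisymm hP4' hP4
  have hinj : Function.Injective (fun x : Q × P => (⟨(x.1 : C) * x.2,
      mul_mem_sup x.1.2 x.2.2⟩ : ↥(Q ⊔ P))) := by
    rintro ⟨a, b⟩ ⟨a', b'⟩ h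
    have h' : (a : C) * b = a' * b' := congrArg Subtype.val h
    have hd : (a' : C)⁻¹ * a = b' * (b : C)⁻¹ := by
      rw [eq_mul_inv_iff_mul_eq, mul_assoc, h', inv_mul_cancel_left]
    have hm : (a' : C)⁻¹ * a ∈ Q ⊓ P :=
      ⟨Q.mul_mem (Q.inv_mem a'.2) a.2, hd ▸ P.mul_mem b'.2 (P.inv_mem b.2)⟩
    rw [hdisj, mem_bot] at hm
    have ha : a = a' := Subtype.ext (inv_mul_eq_one.1 hm).symm
    subst ha
    exact Prod.ext rfl (Subtype.ext (mul_left_cancel h'))
  have hbig := Nat.card_le_card_of_injective _ hinj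
  rw [Nat.card_prod, hP4e] at hbig
  obtain ⟨j, hj⟩ := IsPGroup.iff_card.1 (hQp.to_sup_of_normal_left hP)
  have h128 : 128 ≤ 2 ^ j := by
    rw [← hj]
    refine le_trans ?_ hbig
    exact Nat.mul_le_mul_right 4 (Nat.le_of_dvd Nat.card_pos hQ32)
  have hj7 : 7 ≤ j := (Nat.pow_le_pow_iff_right (a := 2) (by norm_num)).1 (by simpa using h128)
  exact ((show 128 = 2 ^ 7 by norm_num) ▸ pow_dvd_pow 2 hj7).trans (hj ▸ card_subgroup_dvd_card _)

end Cfsg.Agent.Dichotomy
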