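import Cfsg.Agent.Layer.PConstraint
import Cfsg.Prelude.Def_CaseTheorems

/-!
Facts on a 2-constrained group and the part `T` of a Sylow 2-subgroup in `O_{2',2}`.
-/

set_option autoImplicit false

namespace Cfsg.Agent.Dichotomy

open Subgroup Cfsg

variable {C : Type*} [Group C] [Finite C]

/-- The part of `R` in `O_{2',2}(C)`. -/
def corePart (R : Sylow 2 C) : Subgroup C := (R : Subgroup C) ⊓ pPrimePCore 2 C

omit [Finite C] in
theorem corePart_isPGroup (R : Sylow 2 C) : IsPGroup 2 (corePart R) :=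
  R.isPGroup'.to_le inf_le_left

theorem corePart_map (R : Sylow 2 C) :
    (corePart R).map (QuotientGroup.mk' (pPrimeCore 2 C)) = pCore 2 (C ⧸ pPrimeCore 2 C) := by
  have := Fact.mk Nat.prime_two
  refine le_antisymm ?_ fun v hv => ?_
  · rintro _ ⟨x, hx, rfl⟩
    exact hx.2
  · have h2 := Core.pCore_le_sylow (R.mapSurjective (f := QuotientGroup.mk' (pPrimeCore 2 C))
      (QuotientGroup.mk'_surjective _)) hv
    rw [Sylow.coe_mapSurjective] at h2
    obtain ⟨r, hr, rfl⟩ := h2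
    exact ⟨r, ⟨hr, hv⟩, rfl⟩

variable (hc : IsPConstrained 2 C)
include hc

theorem mem_corePart_of_centralizes (R : Sylow 2 C) {x : C} (hxR : x ∈ (R : Subgroup C))
    (hx : ∀ u ∈ corePart R, x * u = u * x) : x ∈ corePart R := by
  have := Fact.mk Nat.prime_two
  refine ⟨hxR, mem_comap.2 (Layer.isPConstrained_iff_selfCentral.1 hc (mem_centralizer_iff.2 ?_))⟩
  intro v hv
  rw [SetLike.mem_coe, ← corePart_map R] at hv
  obtain ⟨u, hu, rfl⟩ := hv
  rw [← map_mul, ← map_mul, hx u hu]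

/-- An element moving `T` only inside a central group of order 2 lies in `T`. -/
theorem mem_corePart_of_series (R : Sylow 2 C) {z : C} (hzc : z ∈ center C) (hzz : z * z = 1)
    {x : C} (hxR : x ∈ (R : Subgroup C))
    (hx : ∀ u ∈ corePart R, x * u * x⁻¹ = u ∨ x * u * x⁻¹ = u * z) : x ∈ corePart R := by
  have := Fact.mk Nat.prime_two
  obtain ⟨f, hf⟩ : ∃ f, f = QuotientGroup.mk' (pPrimeCore 2 C) := ⟨_, rfl⟩
  obtain ⟨Q, hQ⟩ : ∃ Q, Q = pCore 2 (C ⧸ pPrimeCore 2 C) := ⟨_, rfl⟩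
  have hQn : Q.Normal := hQ ▸ inferInstance
  have hz' : ∀ c : C ⧸ pPrimeCore 2 C, c * f z = f z * c := fun c => by
    obtain ⟨d, rfl⟩ := QuotientGroup.mk'_surjective (pPrimeCore 2 C) c
    rw [hf, ← map_mul, ← map_mul, mem_center_iff.1 hzc d]
  let K : Subgroup (C ⧸ pPrimeCore 2 C) :=
    { carrier := {c | ∀ v ∈ Q, c * v * c⁻¹ = v ∨ c * v * c⁻¹ = v * f z}
      one_mem' := fun v _ => Or.inl (by group)
      mul_mem' := fun {a b} ha hb v hv => by
        have hzfix : a * f z * a⁻¹ = f z := by rw [hz', mul_inv_cancel_right]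
        have hzz' : f z * f z = 1 := by rw [← map_mul, hzz, map_one]
        have e : a * b * v * (a * b)⁻¹ = a * (b * v * b⁻¹) * a⁻¹ := by group
        rw [e]
        rcases hb v hv with h | h <;> rw [h]
        · exact ha v hv
        · rw [show a * (v * f z) * a⁻¹ = a * v * a⁻¹ * (a * f z * a⁻¹) by group, hzfix]
          rcases ha v hv with h' | h' <;> rw [h']
          · exact Or.inr rfl
          · exact Or.inl (by rw [mul_assoc, hzz', mul_one])
      inv_mem' := fun {a} ha v hv => by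
        have h := ha (a⁻¹ * v * a⁻¹⁻¹) (hQn.conj_mem v hv a⁻¹)
        rw [show a * (a⁻¹ * v * a⁻¹⁻¹) * a⁻¹ = v by group] at h
        rcases h with h | h
        · exact Or.inl h.symm
        · refine Or.inr ?_
          calc a⁻¹ * v * a⁻¹⁻¹ = a⁻¹ * v * a⁻¹⁻¹ * f z * f z := by
                rw [mul_assoc _ (f z), ← map_mul, hzz, map_one, mul_one]
            _ = v * f z := by rw [← h] }
  have hKn : K.Normal := ⟨fun k hk g v hv => by
    have h := hk (g⁻¹ * v * g⁻¹⁻¹) (hQn.conj_mem v hv g⁻¹)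
    rw [show g * k * g⁻¹ * v * (g * k * g⁻¹)⁻¹ = g * (k * (g⁻¹ * v * g⁻¹⁻¹) * k⁻¹) * g⁻¹ by group]
    rcases h with h | h <;> rw [h]
    · exact Or.inl (by group)
    · refine Or.inr ?_
      rw [show g * (g⁻¹ * v * g⁻¹⁻¹ * f z) * g⁻¹ = v * (g * f z * g⁻¹) by group, hz', mul_inv_cancel_right]⟩
  have hK2 : IsPGroup 2 K := by
    intro k
    have hsq : (k : C ⧸ pPrimeCore 2 C) * k ∈ centralizer (Q : Set (C ⧸ pPrimeCore 2 C)) :=
      mem_centralizer_iff.2 fun v hv => by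
        have e : (k : C ⧸ pPrimeCore 2 C) * k * v * ((k : C ⧸ pPrimeCore 2 C) * k)⁻¹ =
            k * (k * v * (k : C ⧸ pPrimeCore 2 C)⁻¹) * (k : C ⧸ pPrimeCore 2 C)⁻¹ := by group
        refine (mul_inv_eq_iff_eq_mul.1 (e.trans ?_)).symm
        rcases k.2 v hv with h | h <;> rw [h]
        · exact h
        · rw [show (k : C ⧸ pPrimeCore 2 C) * (v * f z) * (k : C ⧸ pPrimeCore 2 C)⁻¹ =
            k * v * (k : C ⧸ pPrimeCore 2 C)⁻¹ * (k * f z * (k : C ⧸ pPrimeCore 2 C)⁻¹) by group,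
            h, show (k : C ⧸ pPrimeCore 2 C) * f z * (k : C ⧸ pPrimeCore 2 C)⁻¹ = f z by
              rw [hz', mul_inv_cancel_right],
            mul_assoc, ← map_mul, hzz, map_one, mul_one]
    have hm := Layer.isPConstrained_iff_selfCentral.1 hc (hQ ▸ hsq)
    obtain ⟨a, ha⟩ := Core.pCore_isPGroup (p := 2) (G := C ⧸ pPrimeCore 2 C) ⟨_, hm⟩
    refine ⟨a + 1, Subtype.ext ?_⟩
    have h := congrArg Subtype.val ha
    simp only [SubgroupClass.coe_pow, OneMemClass.coe_one] at h ⊢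
    rwa [pow_succ', pow_mul, pow_two]
  refine ⟨hxR, mem_comap.2 (Core.le_pCore hK2 fun v hv => ?_)⟩
  rw [hQ, ← corePart_map R] at hv
  obtain ⟨u, hu, rfl⟩ := hv
  rw [hf, ← map_inv, ← map_mul, ← map_mul, ← map_mul]
  rcases hx u hu with h | h <;> rw [h]
  · exact Or.inl rfl
  · exact Or.inr rfl

omit hc in
theorem exists_mul_normalizer (R : Sylow 2 C) (g : C) :
    ∃ o ∈ pPrimeCore 2 C, ∃ n ∈ normalizer (corePart R : Set C), g = o * n := by
  have := Fact.mk Nat.prime_two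
  have h := Layer.map_normalizer_of_coprime (p := 2) (f := QuotientGroup.mk' (pPrimeCore 2 C))
    (QuotientGroup.mk'_surjective _) (by rw [QuotientGroup.ker_mk']; exact Core.coprime_card_pPrimeCore)
    (corePart_isPGroup R)
  rw [corePart_map R, Subgroup.normalizer_eq_top (pCore 2 (C ⧸ pPrimeCore 2 C))] at h
  obtain ⟨n, hn, he⟩ := h.ge (mem_top (QuotientGroup.mk' (pPrimeCore 2 C) g))
  refine ⟨g * n⁻¹, ?_, n, hn, by group⟩
  rw [← QuotientGroup.eq_one_iff, ← QuotientGroup.mk'_apply, map_mul, map_inv, he, mul_inv_cancel]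

/-- An odd subgroup normalised by a Sylow 2-subgroup lies in the core. -/
theorem le_core_of_odd (R : Sylow 2 C) {X : Subgroup C} (hX : Odd (Nat.card X))
    (hRX : (R : Subgroup C) ≤ normalizer (X : Set C)) : X ≤ pPrimeCore 2 C := by
  have := Fact.mk Nat.prime_two
  obtain ⟨f, hf⟩ : ∃ f, f = QuotientGroup.mk' (pPrimeCore 2 C) := ⟨_, rfl⟩
  have hodd : Odd (Nat.card (X.map f)) := hX.of_dvd_nat (card_map_dvd X f)
  have hbot : X.map f ⊓ pCore 2 (C ⧸ pPrimeCore 2 C) = ⊥ := by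
    refine disjoint_iff.1 (Subgroup.disjoint_of_coprime_natCard ?_)
    obtain ⟨k, hk⟩ := IsPGroup.iff_card.1 (Core.pCore_isPGroup (p := 2) (G := C ⧸ pPrimeCore 2 C))
    rw [hk]
    exact Nat.Coprime.pow_right k (Nat.coprime_two_right.2 hodd)
  intro x hx
  have hmem : f x ∈ X.map f ⊓ pCore 2 (C ⧸ pPrimeCore 2 C) := by
    refine ⟨⟨x, hx, rfl⟩, Layer.isPConstrained_iff_selfCentral.1 hc (mem_centralizer_iff.2 ?_)⟩
    intro v hv
    have hv' := hv
    rw [SetLike.mem_coe, ← corePart_map R, ← hf] at hv'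
    obtain ⟨u, hu, rfl⟩ := hv'
    have h1 : f (x * u * x⁻¹ * u⁻¹) ∈ X.map f ⊓ pCore 2 (C ⧸ pPrimeCore 2 C) := by
      refine ⟨⟨_, X.mul_mem hx ((mem_normalizer_iff.1 (hRX hu.1) _).1 (X.inv_mem hx)), ?_⟩, ?_⟩
      · rw [show x * (u * x⁻¹ * u⁻¹) = x * u * x⁻¹ * u⁻¹ by group]
      · rw [map_mul, map_mul, map_mul, map_inv, map_inv]
        exact Subgroup.mul_mem _ ((Cfsg.pCore_normal 2 (C ⧸ pPrimeCore 2 C)).conj_mem _ hv _)
          (Subgroup.inv_mem _ hv)
    rw [hbot, mem_bot, map_mul, map_mul, map_mul, map_inv, map_inv, mul_inv_eq_one,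
      mul_inv_eq_iff_eq_mul] at h1
    exact h1.symm
  rw [hbot, mem_bot, hf, QuotientGroup.mk'_apply, QuotientGroup.eq_one_iff] at hmem
  exact hmem

end Cfsg.Agent.Dichotomy
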