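import Cfsg.Agent.Dichotomy.Setup
import Cfsg.Agent.Invol.SylowConj

/-!
`W` depends only on the Sylow subgroup; its normaliser `H`.
-/

set_option autoImplicit false
set_option linter.unusedSectionVars false

namespace Cfsg.Agent.Dichotomy

open Subgroup Cfsg Signalizer

universe u

variable {G : Type u} [Group G] [Finite G] {S : Sylow 2 G} {A0 : Subgroup G} {z : G}

/-- The subgroup `H = N(W)`. -/
abbrev stab (A0 : Subgroup G) : Subgroup G := normalizer ((cores A0 : Subgroup G) : Set G)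

theorem Base.exists_big_comm (hb : Base S A0 z) :
    ∃ T : Subgroup G, Big T ∧ T ≤ (S : Subgroup G) ∧ ∀ x ∈ A0, ∀ y ∈ T, x * y = y * x := by
  obtain ⟨F, hF, hFS⟩ := hb.rank
  obtain ⟨K, T, -, -, -, hT, hTS, hTc⟩ := hb.vertex_aux hF hFS
  exact ⟨T, hT, hTS, hTc⟩

theorem Base.vertex (hb : Base S A0 z) : IsRankGraphVertex 2 2 A0 := by
  obtain ⟨T, hT, -, hTc⟩ := hb.exists_big_comm
  exact vertex_of_centralized (ea_of_sq hb.sq) hb.card.ge hT hTc

theorem Base.same_big (h : Ctx G) (hb : Base S A0 z) {F : Subgroup G} (hF : Big F)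
    (hFS : F ≤ (S : Subgroup G)) : cores F = cores A0 := by
  obtain ⟨K, T, hKF, hK, hKc, -, -, -⟩ := hb.vertex_aux hF hFS
  exact (cores_step h (vertex_of_big' hF) hK fun x hx y hy => Coprime.ea_comm hF.1 hx (hKF hy)).trans
    (cores_step h hb.vertex hK hKc).symm

theorem Base.same (h : Ctx G) (hb : Base S A0 z) {E F : Subgroup G} (hE : IsElementaryAbelian 2 E)
    (h4 : 4 ≤ Nat.card E) (hF : Big F) (hFS : F ≤ (S : Subgroup G))
    (hc : ∀ x ∈ E, ∀ y ∈ F, x * y = y * x) : cores E = cores A0 :=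
  (cores_step h (vertex_of_centralized hE h4 hF hc) (vertex_of_big' hF) hc).trans (hb.same_big h hF hFS)

theorem Base.W_odd (h : Ctx G) (hb : Base S A0 z) : Odd (Nat.card (cores A0)) := by
  obtain ⟨F, hF, hFS⟩ := hb.rank
  rw [← hb.same_big h hF hFS]
  exact cores_odd h hF

theorem Base.mem_stab (_hb : Base S A0 z) {g : G}
    (hg : cores (A0.map (MulAut.conj g).toMonoidHom) = cores A0) : g ∈ stab A0 :=
  mem_normalizer_of_map_eq ((cores_conj A0 g).symm.trans hg)

theorem mem_stab_of_vertex {E : Subgroup G} (hE : cores E = cores A0) {g : G}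
    (hg : g ∈ normalizer (E : Set G)) : g ∈ stab A0 := by
  refine mem_normalizer_of_map_eq ?_
  rw [← hE, ← cores_conj, map_conj_eq_of_mem_normalizer hg]

theorem Base.S_le (hb : Base S A0 z) : (S : Subgroup G) ≤ stab A0 := fun s hs =>
  mem_stab_of_vertex rfl (mem_normalizer_fintype fun a ha => hb.norm s hs a ha)

/-- A conjugate of `S` sharing a big elementary abelian subgroup with a stable conjugate. -/
theorem Base.mem_stab_of_big (h : Ctx G) (hb : Base S A0 z) {F : Subgroup G} (hF : Big F)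
    (hFW : cores F = cores A0) {g : G} (hFS : F ≤ ((g • S : Sylow 2 G) : Subgroup G)) :
    g ∈ stab A0 := by
  refine mem_normalizer_of_map_eq ?_
  have hFS' : F.map (MulAut.conj g⁻¹).toMonoidHom ≤ (S : Subgroup G) := by
    rintro _ ⟨x, hx, rfl⟩
    have := hFS hx
    rw [Sylow.coe_subgroup_smul, Subgroup.mem_pointwise_smul_iff_inv_smul_mem, ← map_inv] at this
    exact this
  have h1 := hb.same_big h (big_conj hF g⁻¹) hFS'
  conv_rhs => rw [← hFW, ← map_conj_one F, show (1 : G) = g * g⁻¹ by group, ← map_conj_mul]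
  rw [cores_conj, h1]

theorem Base.normalizer_le (h : Ctx G) (hb : Base S A0 z) :
    normalizer ((S : Subgroup G) : Set G) ≤ stab A0 := by
  intro n hn
  refine hb.mem_stab ?_
  obtain ⟨T, hT, hTS, hTc⟩ := hb.exists_big_comm
  refine hb.same h (ea_of_sq ?_) (by rw [card_map_of_injective (MulAut.conj n).injective]; exact hb.card.ge)
    (big_conj hT n) ?_ ?_
  · rintro _ ⟨x, hx, rfl⟩; rw [← map_mul, hb.sq x hx, map_one]
  · rintro _ ⟨x, hx, rfl⟩; exact (mem_normalizer_iff.1 hn x).1 (hTS hx)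
  · rintro _ ⟨x, hx, rfl⟩ _ ⟨y, hy, rfl⟩; rw [← map_mul, hTc x hx y hy, map_mul]

/-- A Sylow subgroup of a subgroup, as a subgroup of the group. -/
theorem exists_sylow_centralizer {t : G} {R : Subgroup G} (hR : IsPGroup 2 R)
    (hRt : R ≤ centralizer ({t} : Set G)) :
    ∃ P : Sylow 2 ↥(centralizer ({t} : Set G)),
      R ≤ (P : Subgroup ↥(centralizer ({t} : Set G))).map (centralizer ({t} : Set G)).subtype := by
  obtain ⟨P, hP⟩ := (hR.comap_subtype (K := centralizer ({t} : Set G))).exists_le_sylow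
  exact ⟨P, fun x hx => ⟨⟨x, hRt hx⟩, hP (mem_subgroupOf.2 hx), rfl⟩⟩

/-- `C_W(z) ≤ O(C(z))`. -/
theorem Base.theta_z (h : Ctx G) (hb : Base S A0 z) :
    cores A0 ⊓ centralizer ({z} : Set G) ≤ theta z := by
  have := Fact.mk Nat.prime_two
  set C := centralizer ({z} : Set G) with hC
  have hSC : (S : Subgroup G) ≤ C := fun s hs => mem_centralizer_singleton_iff.2 (hb.central s hs)
  have hodd : Odd (Nat.card ((cores A0).subgroupOf C)) := by
    rw [← Subgroup.card_map_of_injective C.subtype_injective, Subgroup.subgroupOf_map_subtype]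
    exact (hb.W_odd h).of_dvd_nat (card_dvd_of_le inf_le_left)
  have hnorm : (S.subtype hSC : Subgroup C) ≤
      normalizer (((cores A0).subgroupOf C : Subgroup C) : Set C) := by
    intro s hs
    refine mem_normalizer_fintype fun x hx => ?_
    exact (mem_normalizer_iff.1 (hb.S_le (show (s : G) ∈ (S : Subgroup G) from hs)) (x : G)).1 hx
  have h1 := le_core_of_odd (h.cons z hb.zord) (S.subtype hSC) hodd hnorm
  rintro x ⟨hxW, hxC⟩
  exact ⟨⟨x, hxC⟩, h1 (show (⟨x, hxC⟩ : C) ∈ (cores A0).subgroupOf C from hxW), rfl⟩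

end Cfsg.Agent.Dichotomy
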