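import Cfsg.Agent.Signalizer.RankGraph
import Cfsg.Agent.S0217
import Cfsg.Agent.S0205
import Cfsg.Agent.Invol.NormalFour
import Cfsg.Agent.Dichotomy.Local
import Cfsg.Prelude.Def_CaseTheorems

/-!
Groups with 2-constrained involution centralisers in which every involution lies in an
elementary abelian group of order 8: the join `W` of the cores at a normal four-subgroup.
-/

set_option autoImplicit false
set_option linter.unusedSectionVars false

namespace Cfsg.Agent.Dichotomy

open Subgroup Cfsg Signalizer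

universe u

variable {G : Type u} [Group G] [Finite G]

/-- Elementary abelian of order at least 8. -/
abbrev Big (E : Subgroup G) : Prop := IsElementaryAbelian 2 E ∧ 2 ^ 3 ≤ Nat.card E

/-- The hypotheses on the group. -/
structure Ctx (G : Type u) [Group G] : Prop where
  core : oddCore G = ⊥
  cons : ∀ t : G, orderOf t = 2 → IsPConstrained 2 ↥(centralizer ({t} : Set G))
  deep : ∀ t : G, orderOf t = 2 → ¬ PRankLE 2 2 ↥(centralizer ({t} : Set G))

/-- A Sylow subgroup, a normal four-subgroup and an involution in it that is central in the Sylow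
subgroup. -/
structure Base (S : Sylow 2 G) (A0 : Subgroup G) (z : G) : Prop where
  le : A0 ≤ (S : Subgroup G)
  card : Nat.card A0 = 4
  sq : ∀ a ∈ A0, a * a = 1
  norm : ∀ s ∈ (S : Subgroup G), ∀ a ∈ A0, s * a * s⁻¹ ∈ A0
  mem : z ∈ A0
  ne : z ≠ 1
  central : ∀ s ∈ (S : Subgroup G), s * z = z * s
  rank : ∃ F, Big F ∧ F ≤ (S : Subgroup G)

/-- The core of the centraliser. -/
abbrev theta (a : G) : Subgroup G := centralizerPPrimeCore 2 a

/-- The join of the cores over `E`. -/
abbrev cores (E : Subgroup G) : Subgroup G := valueSup (theta (G := G)) E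

theorem orderOf_two_of_sq {a : G} (h : a * a = 1) (h1 : a ≠ 1) : orderOf a = 2 :=
  orderOf_eq_prime (by rw [pow_two, h]) h1

theorem mul_self_of_orderOf_two {a : G} (h : orderOf a = 2) : a * a = 1 := by
  have := pow_orderOf_eq_one a
  rwa [h, pow_two] at this

omit [Finite G] in
theorem ea_of_sq {E : Subgroup G} (h : ∀ a ∈ E, a * a = 1) : IsElementaryAbelian 2 E := by
  refine ⟨⟨⟨fun a b => Subtype.ext ?_⟩⟩, fun a ha => by rw [pow_two, h a ha]⟩
  have hi : ∀ x ∈ E, x⁻¹ = x := fun x hx => inv_eq_of_mul_eq_one_right (h x hx)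
  show (a : G) * b = b * a
  rw [← hi _ (E.mul_mem a.2 b.2), mul_inv_rev, hi _ b.2, hi _ a.2]

omit [Finite G] in
theorem ea_sq {E : Subgroup G} (h : IsElementaryAbelian 2 E) {a : G} (ha : a ∈ E) : a * a = 1 := by
  have := h.2 a ha
  rwa [pow_two] at this

theorem theta_le (a : G) : theta a ≤ centralizer ({a} : Set G) := map_subtype_le _

theorem theta_odd (a : G) : Odd (Nat.card (theta a)) := by
  unfold theta centralizerPPrimeCore
  rw [Subgroup.card_map_of_injective (centralizer ({a} : Set G)).subtype_injective]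
  exact Nat.coprime_two_right.1 (Core.coprime_card_pPrimeCore (p := 2))

theorem theta_not_dvd (a : G) : ¬ 2 ∣ Nat.card (theta a) :=
  Nat.two_dvd_ne_zero.2 (Nat.odd_iff.1 (theta_odd a))

theorem theta_conj (a g : G) : theta (g * a * g⁻¹) = (theta a).map (MulAut.conj g).toMonoidHom :=
  core_conj a g

theorem theta_norm {a f : G} (h : f * a = a * f) {x : G} (hx : x ∈ theta a) :
    f * x * f⁻¹ ∈ theta a := by
  have h' := theta_conj a f
  rw [h, mul_inv_cancel_right] at h'
  rw [h']
  exact ⟨x, hx, rfl⟩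

theorem theta_bal (h : Ctx G) {a b : G} (ha : orderOf a = 2) (hb : orderOf b = 2)
    (hab : a * b = b * a) : theta a ⊓ centralizer {b} ≤ theta b := by
  have := Fact.mk Nat.prime_two
  exact core_balance hab ha (h.cons b hb)

theorem vertex_of_big' {E : Subgroup G} (h : Big E) : IsRankGraphVertex 2 2 E :=
  vertex_of_big h.1 two_pos h.2 one_lt_two

/-- A subgroup of order at least 4 centralised by a big one is a vertex. -/
theorem vertex_of_centralized {E F : Subgroup G} (hE : IsElementaryAbelian 2 E)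
    (h4 : 4 ≤ Nat.card E) (hF : Big F) (hc : ∀ x ∈ E, ∀ y ∈ F, x * y = y * x) :
    IsRankGraphVertex 2 2 E := by
  refine ⟨hE, by simpa using h4, fun h => ?_⟩
  have hle : F ≤ centralizer (E : Set G) := fun y hy => mem_centralizer_iff.2 fun x hx => hc x hx y hy
  have h2 := h (F.subgroupOf (centralizer (E : Set G)))
    ⟨⟨fun a b => Subtype.ext (Subtype.ext (Coprime.ea_comm hF.1 a.2 b.2))⟩⟩
    fun a ha => Subtype.ext (hF.1.2 _ ha)
  rw [Nat.card_congr (subgroupOfEquivOfLe hle).toEquiv] at h2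
  have := hF.2.trans h2
  norm_num at this

/-- Commuting vertices have the same join. -/
theorem cores_step (h : Ctx G) {E F : Subgroup G} (hE : IsRankGraphVertex 2 2 E)
    (hF : IsRankGraphVertex 2 2 F) (hEF : ∀ x ∈ E, ∀ y ∈ F, x * y = y * x) :
    cores E = cores F := by
  have := Fact.mk Nat.prime_two
  have key : ∀ {E F : Subgroup G}, IsRankGraphVertex 2 2 E → IsRankGraphVertex 2 2 F →
      (∀ x ∈ E, ∀ y ∈ F, x * y = y * x) → cores E ≤ cores F := by
    intro E F hE hF hEF
    refine iSup_le fun e => ?_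
    refine Coprime.ea_le_of_centralizers_le hF.1 hF.2.1 (theta_not_dvd _)
      (le_normalizer_iff.mpr fun f hf x hx => theta_norm (hEF _ e.2.1 f hf).symm hx)
      fun f hf hf1 => ?_
    exact (theta_bal h (orderOf_two_of_sq (ea_sq hE.1 e.2.1) e.2.2)
      (orderOf_two_of_sq (ea_sq hF.1 hf) hf1) (hEF _ e.2.1 f hf)).trans
      (le_iSup (fun a : {a : G // a ∈ F ∧ a ≠ 1} => theta (a : G)) ⟨f, hf, hf1⟩)
  exact le_antisymm (key hE hF hEF) (key hF hE fun x hx y hy => (hEF y hy x hx).symm)

theorem cores_odd (h : Ctx G) {F : Subgroup G} (hF : Big F) : Odd (Nat.card (cores F)) := by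
  have := Fact.mk Nat.prime_two
  have hsq : ∀ a ∈ F, a ≠ 1 → orderOf a = 2 := fun a ha h1 => orderOf_two_of_sq (ea_sq hF.1 ha) h1
  have h1 := (S0217.result F (fun x hx y hy => Coprime.ea_comm hF.1 hx hy) hF.1.2 hF.2 theta
    (fun a _ _ => theta_le a) (fun a _ _ => theta_not_dvd a)
    (fun a ha _ b hb x hx => theta_norm (Coprime.ea_comm hF.1 hb ha) hx)
    (fun a _ _ => S0205.result (theta_odd a))
    (fun a ha h1 b hb hb1 => theta_bal h (hsq a ha h1) (hsq b hb hb1) (Coprime.ea_comm hF.1 ha hb))).1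
  exact Nat.odd_iff.2 (Nat.two_dvd_ne_zero.1 h1)

theorem cores_conj (E : Subgroup G) (g : G) :
    cores (E.map (MulAut.conj g).toMonoidHom) = (cores E).map (MulAut.conj g).toMonoidHom := by
  unfold cores valueSup
  rw [Subgroup.map_iSup]
  refine le_antisymm (iSup_le ?_) (iSup_le ?_)
  · rintro ⟨_, ⟨a, ha, rfl⟩, h1⟩
    refine le_trans (le_of_eq (theta_conj a g))
      (le_iSup (fun e : {e : G // e ∈ E ∧ e ≠ 1} => (theta (e : G)).map (MulAut.conj g).toMonoidHom)
        ⟨a, ha, fun e => h1 (by rw [e, map_one])⟩)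
  · rintro ⟨a, ha, h1⟩
    refine le_trans (le_of_eq (theta_conj a g).symm)
      (le_iSup (fun e : {e : G // e ∈ E.map (MulAut.conj g).toMonoidHom ∧ e ≠ 1} => theta (e : G))
        ⟨g * a * g⁻¹, ⟨a, ha, rfl⟩, fun e => h1 (conj_eq_one_iff.1 e)⟩)

theorem theta_le_cores {E : Subgroup G} {a : G} (ha : a ∈ E) (h1 : a ≠ 1) : theta a ≤ cores E :=
  le_iSup (fun e : {e : G // e ∈ E ∧ e ≠ 1} => theta (e : G)) ⟨a, ha, h1⟩

omit [Finite G] in
theorem map_conj_eq_of_mem_normalizer {E : Subgroup G} {g : G} (hg : g ∈ normalizer (E : Set G)) :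
    E.map (MulAut.conj g).toMonoidHom = E := by
  ext x
  constructor
  · rintro ⟨y, hy, rfl⟩
    exact (mem_normalizer_iff.1 hg y).1 hy
  · intro hx
    refine ⟨g⁻¹ * x * g, (mem_normalizer_iff.1 hg _).2 ?_, ?_⟩
    · simpa [mul_assoc] using hx
    · simp [mul_assoc]

theorem map_conj_one (E : Subgroup G) : E.map (MulAut.conj (1 : G)).toMonoidHom = E := by
  rw [map_one]; exact Subgroup.map_id E

theorem map_conj_mul (E : Subgroup G) (g h : G) :
    (E.map (MulAut.conj h).toMonoidHom).map (MulAut.conj g).toMonoidHom =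
      E.map (MulAut.conj (g * h)).toMonoidHom := by
  rw [Subgroup.map_map, map_mul]; rfl

/-- Elements fixing `W` under conjugation normalise it. -/
theorem mem_normalizer_of_map_eq {W : Subgroup G} {g : G}
    (h : W.map (MulAut.conj g).toMonoidHom = W) : g ∈ normalizer (W : Set G) := by
  refine mem_normalizer_fintype fun x hx => ?_
  have : g * x * g⁻¹ ∈ W.map (MulAut.conj g).toMonoidHom := ⟨x, hx, rfl⟩
  rwa [h] at this

theorem big_conj {F : Subgroup G} (hF : Big F) (g : G) : Big (F.map (MulAut.conj g).toMonoidHom) :=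
  ⟨ea_of_sq (by rintro _ ⟨x, hx, rfl⟩; rw [← map_mul, ea_sq hF.1 hx, map_one]),
    by rw [card_map_of_injective (MulAut.conj g).injective]; exact hF.2⟩

/-- Adjoining a commuting involution. -/
theorem big_insert {E : Subgroup G} {x : G} (hE : ∀ a ∈ E, a * a = 1) (h4 : 4 ≤ Nat.card E)
    (hx : x * x = 1) (hxE : x ∉ E) (hc : ∀ a ∈ E, a * x = x * a) :
    ∃ F, Big F ∧ E ≤ F ∧ x ∈ F ∧ (∀ S : Subgroup G, E ≤ S → x ∈ S → F ≤ S) := by
  have hcx : ∀ u, u * x ∈ E → u * x = x * u := fun u hu => by
    have h := hc _ hu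
    rw [mul_assoc u x x, hx, mul_one] at h
    conv_rhs => rw [h, ← mul_assoc, hx, one_mul]
  let F : Subgroup G :=
    { carrier := {y | y ∈ E ∨ y * x ∈ E}
      one_mem' := Or.inl E.one_mem
      mul_mem' := by
        rintro u v (hu | hu) (hv | hv)
        · exact Or.inl (mul_mem hu hv)
        · exact Or.inr (by rw [mul_assoc]; exact mul_mem hu hv)
        · refine Or.inr ?_
          rw [mul_assoc, hc v hv, ← mul_assoc]
          exact mul_mem hu hv
        · refine Or.inl ?_
          have e : u * v = u * x * (v * x) := by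
            calc u * v = u * (v * x) * x := by rw [mul_assoc, mul_assoc v, hx, mul_one]
              _ = u * (x * v) * x := by rw [hcx v hv]
              _ = u * x * (v * x) := by group
          rw [e]
          exact mul_mem hu hv
      inv_mem' := by
        rintro u (hu | hu)
        · exact Or.inl (inv_mem hu)
        · refine Or.inr ?_
          have hu2 : u * u = 1 := by
            calc u * u = u * (x * x) * u := by rw [hx, mul_one]
              _ = u * x * (x * u) := by group
              _ = 1 := by rw [← hcx u hu, hE _ hu]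
          rw [inv_eq_of_mul_eq_one_right hu2]
          exact hu }
  have hmem : ∀ y, y ∈ F ↔ y ∈ E ∨ y * x ∈ E := fun y => Iff.rfl
  refine ⟨F, ⟨ea_of_sq ?_, ?_⟩, fun a ha => Or.inl ha, Or.inr (by rw [hx]; exact one_mem E),
    fun S hES hxS y hy => ?_⟩
  · rintro a (ha | ha)
    · exact hE a ha
    · calc a * a = a * x * x * (a * x) * x := by
            rw [mul_assoc a x x, hx, mul_one, mul_assoc a (a * x), mul_assoc a x x, hx, mul_one]
        _ = a * x * (x * (a * x)) * x := by group
        _ = a * x * (a * x * x) * x := by rw [hc _ ha]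
        _ = (a * x) * (a * x) * (x * x) := by group
        _ = 1 := by rw [hE _ ha, hx, one_mul]
  · have hinj : Function.Injective (fun p : E × Bool =>
        (⟨if p.2 then (p.1 : G) * x else p.1, by
          rw [hmem]; cases p.2
          · exact Or.inl p.1.2
          · refine Or.inr ?_
            simp only [if_true]
            rw [mul_assoc, hx, mul_one]; exact p.1.2⟩ : F)) := by
      rintro ⟨a, i⟩ ⟨b, j⟩ h
      have h' := congrArg Subtype.val h
      cases i <;> cases j <;> simp only [Bool.false_eq_true, if_false, if_true] at h'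
      · exact Prod.ext (Subtype.ext h') rfl
      · exact absurd (by rw [show x = (b : G)⁻¹ * a by rw [h', inv_mul_cancel_left]]
                         exact mul_mem (inv_mem b.2) a.2) hxE
      · exact absurd (by rw [show x = (a : G)⁻¹ * b by rw [← h', inv_mul_cancel_left]]
                         exact mul_mem (inv_mem a.2) b.2) hxE
      · exact Prod.ext (Subtype.ext (mul_right_cancel h')) rfl
    have := Nat.card_le_card_of_injective _ hinj
    rw [Nat.card_prod, Nat.card_eq_fintype_card (α := Bool), Fintype.card_bool] at this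
    norm_num
    omega
  · rcases (hmem y).1 hy with h | h
    · exact hES h
    · have := mul_mem (hES h) hxS
      rwa [mul_assoc, hx, mul_one] at this

variable {S : Sylow 2 G} {A0 : Subgroup G} {z : G}

theorem Base.zz (hb : Base S A0 z) : z * z = 1 := hb.sq z hb.mem

theorem Base.zord (hb : Base S A0 z) : orderOf z = 2 := orderOf_two_of_sq hb.zz hb.ne

theorem Base.zS (hb : Base S A0 z) : z ∈ (S : Subgroup G) := hb.le hb.mem

theorem Base.comm (hb : Base S A0 z) {a b : G} (ha : a ∈ A0) (hb' : b ∈ A0) : a * b = b * a :=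
  Coprime.ea_comm (ea_of_sq hb.sq) ha hb'

/-- The four elements of `A0`. -/
theorem Base.cases (hb : Base S A0 z) {w : G} (hw : w ∈ A0) (hw1 : w ≠ 1) (hwz : w ≠ z) {a : G}
    (ha : a ∈ A0) : a = 1 ∨ a = z ∨ a = w ∨ a = z * w := by
  by_contra hcon
  push Not at hcon
  obtain ⟨h1, h2, h3, h4⟩ := hcon
  have hzw1 : (1 : G) ≠ z * w := fun e => hwz (by
    calc w = z * z * w := by rw [hb.zz, one_mul]
      _ = z := by rw [mul_assoc, ← e, mul_one])
  have hzwz : z ≠ z * w := fun e => hw1 (left_eq_mul.1 e)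
  have hzww : w ≠ z * w := fun e => hb.ne (right_eq_mul.1 e)
  have hsub : ({a, 1, z, w, z * w} : Set G) ⊆ A0 := by
    rintro x (rfl | rfl | rfl | rfl | rfl)
    exacts [ha, one_mem _, hb.mem, hw, mul_mem hb.mem hw]
  have h5 : ({a, 1, z, w, z * w} : Set G).ncard = 5 := by
    rw [Set.ncard_insert_of_notMem, Set.ncard_insert_of_notMem, Set.ncard_insert_of_notMem,
      Set.ncard_pair hzww]
    · simp only [Set.mem_insert_iff, Set.mem_singleton_iff, not_or]
      exact ⟨fun e => hwz e.symm, hzwz⟩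
    · simp only [Set.mem_insert_iff, Set.mem_singleton_iff, not_or]
      exact ⟨fun e => hb.ne e.symm, fun e => hw1 e.symm, hzw1⟩
    · simp only [Set.mem_insert_iff, Set.mem_singleton_iff, not_or]
      exact ⟨h1, h2, h3, h4⟩
  have := Set.ncard_le_ncard hsub (Set.toFinite _)
  rw [h5, ← Nat.card_coe_set_eq] at this
  change 5 ≤ Nat.card A0 at this
  rw [hb.card] at this
  omega

theorem Base.exists_w (hb : Base S A0 z) : ∃ w ∈ A0, w ≠ 1 ∧ w ≠ z := by
  by_contra h
  push Not at h
  have hsub : (A0 : Set G) ⊆ {1, z} := fun x hx => by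
    by_cases h1 : x = 1
    · exact Or.inl h1
    · exact Or.inr (h x hx h1)
  have := Set.ncard_le_ncard hsub (Set.toFinite _)
  rw [← Nat.card_coe_set_eq] at this
  change Nat.card A0 ≤ _ at this
  rw [hb.card, Set.ncard_pair (fun e => hb.ne e.symm)] at this
  omega

/-- Every element of `S` fixes `w` or moves it to `z w`. -/
theorem Base.move (hb : Base S A0 z) {w : G} (hw : w ∈ A0) (hw1 : w ≠ 1) (hwz : w ≠ z) {s : G}
    (hs : s ∈ (S : Subgroup G)) : s * w * s⁻¹ = w ∨ s * w * s⁻¹ = z * w := by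
  rcases hb.cases hw hw1 hwz (hb.norm s hs w hw) with h | h | h | h
  · exact absurd (conj_eq_one_iff.1 h) hw1
  · refine absurd ?_ hwz
    calc w = s⁻¹ * (s * w * s⁻¹) * s := by group
      _ = z := by rw [h, mul_assoc, ← hb.central s hs, inv_mul_cancel_left]
  · exact Or.inl h
  · exact Or.inr h

/-- `M = C_S(A0)`. -/
theorem Base.centralizes (hb : Base S A0 z) {w : G} (hw : w ∈ A0) (hw1 : w ≠ 1) (hwz : w ≠ z) {s : G}
    (hs : s ∈ (S : Subgroup G)) (h : s * w = w * s) : ∀ a ∈ A0, a * s = s * a := fun a ha => by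
  rcases hb.cases hw hw1 hwz ha with rfl | rfl | rfl | rfl
  · simp
  · exact (hb.central s hs).symm
  · exact h.symm
  · rw [mul_assoc, ← h, ← mul_assoc, ← hb.central s hs, mul_assoc]

/-- `C_F(A0)` has index at most 2 in `F ≤ S`. -/
theorem Base.card_le_two_mul (hb : Base S A0 z) {w : G} (hw : w ∈ A0) (hw1 : w ≠ 1) (hwz : w ≠ z)
    {F : Subgroup G} (hF : F ≤ (S : Subgroup G)) :
    Nat.card F ≤ 2 * Nat.card ↥(F ⊓ centralizer ({w} : Set G)) := by
  classical
  by_cases hall : F ≤ centralizer ({w} : Set G)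
  · rw [inf_eq_left.2 hall]; omega
  obtain ⟨f, hf, hfw⟩ := SetLike.not_le_iff_exists.1 hall
  have hmove : ∀ g ∈ F, g ∉ centralizer ({w} : Set G) → g * w * g⁻¹ = z * w := fun g hg hgw =>
    (hb.move hw hw1 hwz (hF hg)).resolve_left fun h =>
      hgw (mem_centralizer_singleton_iff.2 (mul_inv_eq_iff_eq_mul.1 h))
  have hmem : ∀ g ∈ F, g ∉ centralizer ({w} : Set G) → f⁻¹ * g ∈ F ⊓ centralizer ({w} : Set G) := by
    intro g hg hgw
    refine ⟨F.mul_mem (F.inv_mem hf) hg, mem_centralizer_singleton_iff.2 ?_⟩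
    have e1 := hmove f hf hfw
    have e2 := hmove g hg hgw
    calc f⁻¹ * g * w = f⁻¹ * (g * w * g⁻¹) * g := by group
      _ = f⁻¹ * (f * w * f⁻¹) * g := by rw [e1, e2]
      _ = w * (f⁻¹ * g) := by group
  refine le_trans (Nat.card_le_card_of_injective
    (fun g : F => if hg : (g : G) ∈ centralizer ({w} : Set G)
      then ((⟨g, g.2, hg⟩ : ↥(F ⊓ centralizer ({w} : Set G))), false)
      else (⟨f⁻¹ * g, hmem g g.2 hg⟩, true)) ?_) ?_
  · intro a b h
    dsimp only at h
    split_ifs at h with ha hb'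
    · exact Subtype.ext (congrArg (fun p => ((p.1 : ↥(F ⊓ centralizer ({w} : Set G))) : G)) h)
    · exact absurd (congrArg Prod.snd h) (by simp)
    · exact absurd (congrArg Prod.snd h) (by simp)
    · exact Subtype.ext (mul_left_cancel (congrArg (fun p => ((p.1 : ↥(F ⊓ centralizer ({w} : Set G))) : G)) h))
  · rw [Nat.card_prod, Nat.card_eq_fintype_card (α := Bool), Fintype.card_bool, mul_comm]

/-- The normal four-subgroup is a vertex. -/
theorem Base.vertex_aux (hb : Base S A0 z) {F : Subgroup G} (hF : Big F)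
    (hFS : F ≤ (S : Subgroup G)) :
    ∃ K T : Subgroup G, K ≤ F ∧ IsRankGraphVertex 2 2 K ∧
      (∀ x ∈ A0, ∀ y ∈ K, x * y = y * x) ∧ Big T ∧ T ≤ (S : Subgroup G) ∧
      ∀ x ∈ A0, ∀ y ∈ T, x * y = y * x := by
  obtain ⟨w, hw, hw1, hwz⟩ := hb.exists_w
  obtain ⟨K, hK⟩ : ∃ K, K = F ⊓ centralizer ({w} : Set G) := ⟨_, rfl⟩
  have hKF : K ≤ F := hK ▸ inf_le_left
  have hKc : ∀ x ∈ A0, ∀ y ∈ K, x * y = y * x := fun x hx y hy => by
    rw [hK] at hy
    exact hb.centralizes hw hw1 hwz (hFS hy.1) (mem_centralizer_singleton_iff.1 hy.2) x hx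
  have h4 : 4 ≤ Nat.card K := by
    have h1 := hb.card_le_two_mul hw hw1 hwz hFS
    have h2 := hF.2
    rw [← hK] at h1
    norm_num at h2
    omega
  have hKe : IsElementaryAbelian 2 K := Coprime.ea_mono hF.1 hKF
  have hKv := vertex_of_centralized hKe h4 hF fun x hx y hy => Coprime.ea_comm hF.1 (hKF hx) hy
  by_cases hA : A0 ≤ F
  · exact ⟨K, F, hKF, hKv, hKc, hF, hFS, fun x hx y hy => Coprime.ea_comm hF.1 (hA hx) hy⟩
  obtain ⟨a, ha, haF⟩ := SetLike.not_le_iff_exists.1 hA
  obtain ⟨T, hT, -, -, hle⟩ := big_insert (fun y hy => ea_sq hKe hy) h4 (hb.sq a ha)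
    (fun h => haF (hKF h)) fun y hy => (hKc a ha y hy).symm
  have hTc : T ≤ centralizer (A0 : Set G) :=
    hle _ (fun y hy => mem_centralizer_iff.2 fun x hx => hKc x hx y hy)
      (mem_centralizer_iff.2 fun x hx => hb.comm hx ha)
  exact ⟨K, T, hKF, hKv, hKc, hT, hle _ (hKF.trans hFS) (hb.le ha),
    fun x hx y hy => mem_centralizer_iff.1 (hTc hy) x hx⟩

end Cfsg.Agent.Dichotomy
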